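import Mathlib
import Cfsg.Agent.H93.Fi22BTable.Data

/-!
A checked coset table (generated data).
-/

set_option autoImplicit false
set_option maxRecDepth 100000
set_option linter.all false
set_option Elab.async false

namespace H93
namespace Fi22BTable

open Coset

noncomputable section

theorem rel6_1 : data.relOK [6,0,6,0] 7040 7040 = true := by decide +kernel

theorem rel7_0 : data.relOK [7,0,7,0] 0 7040 = true := by decide +kernel

theorem rel7_1 : data.relOK [7,0,7,0] 7040 7040 = true := by decide +kernel

theorem rel8_0 : data.relOK [8,0,8,0] 0 7040 = true := by decide +kernel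

theorem rel8_1 : data.relOK [8,0,8,0] 7040 7040 = true := by decide +kernel

theorem rel9_0 : data.relOK [1,1] 0 14080 = true := by decide +kernel

theorem rel10_0 : data.relOK [2,1,2,1,2,1] 0 4694 = true := by decide +kernel

theorem rel10_1 : data.relOK [2,1,2,1,2,1] 4694 4694 = true := by decide +kernel

theorem rel10_2 : data.relOK [2,1,2,1,2,1] 9388 4692 = true := by decide +kernel

theorem rel11_0 : data.relOK [3,1,3,1] 0 7040 = true := by decide +kernel

theorem rel11_1 : data.relOK [3,1,3,1] 7040 7040 = true := by decide +kernel

theorem rel12_0 : data.relOK [4,1,4,1] 0 7040 = true := by decide +kernel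

theorem rel12_1 : data.relOK [4,1,4,1] 7040 7040 = true := by decide +kernel

theorem rel13_0 : data.relOK [5,1,5,1] 0 7040 = true := by decide +kernel

theorem rel13_1 : data.relOK [5,1,5,1] 7040 7040 = true := by decide +kernel

theorem rel14_0 : data.relOK [6,1,6,1] 0 7040 = true := by decide +kernel

theorem rel14_1 : data.relOK [6,1,6,1] 7040 7040 = true := by decide +kernel

theorem rel15_0 : data.relOK [7,1,7,1] 0 7040 = true := by decide +kernel

theorem rel15_1 : data.relOK [7,1,7,1] 7040 7040 = true := by decide +kernel

theorem rel16_0 : data.relOK [8,1,8,1] 0 7040 = true := by decide +kernel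

theorem rel16_1 : data.relOK [8,1,8,1] 7040 7040 = true := by decide +kernel

theorem rel17_0 : data.relOK [2,2] 0 14080 = true := by decide +kernel

theorem rel18_0 : data.relOK [3,2,3,2,3,2] 0 4694 = true := by decide +kernel

theorem rel18_1 : data.relOK [3,2,3,2,3,2] 4694 4694 = true := by decide +kernel

theorem rel18_2 : data.relOK [3,2,3,2,3,2] 9388 4692 = true := by decide +kernel

theorem rel19_0 : data.relOK [4,2,4,2] 0 7040 = true := by decide +kernel

theorem rel19_1 : data.relOK [4,2,4,2] 7040 7040 = true := by decide +kernel

theorem rel20_0 : data.relOK [5,2,5,2] 0 7040 = true := by decide +kernel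

theorem rel20_1 : data.relOK [5,2,5,2] 7040 7040 = true := by decide +kernel

theorem rel21_0 : data.relOK [6,2,6,2] 0 7040 = true := by decide +kernel

theorem rel21_1 : data.relOK [6,2,6,2] 7040 7040 = true := by decide +kernel

theorem rel22_0 : data.relOK [7,2,7,2] 0 7040 = true := by decide +kernel

theorem rel22_1 : data.relOK [7,2,7,2] 7040 7040 = true := by decide +kernel

theorem rel23_0 : data.relOK [8,2,8,2] 0 7040 = true := by decide +kernel

theorem rel23_1 : data.relOK [8,2,8,2] 7040 7040 = true := by decide +kernel

theorem rel24_0 : data.relOK [3,3] 0 14080 = true := by decide +kernel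

theorem rel25_0 : data.relOK [4,3,4,3,4,3] 0 4694 = true := by decide +kernel

theorem rel25_1 : data.relOK [4,3,4,3,4,3] 4694 4694 = true := by decide +kernel

theorem rel25_2 : data.relOK [4,3,4,3,4,3] 9388 4692 = true := by decide +kernel

theorem rel26_0 : data.relOK [5,3,5,3] 0 7040 = true := by decide +kernel

theorem rel26_1 : data.relOK [5,3,5,3] 7040 7040 = true := by decide +kernel

theorem rel27_0 : data.relOK [6,3,6,3] 0 7040 = true := by decide +kernel

theorem rel27_1 : data.relOK [6,3,6,3] 7040 7040 = true := by decide +kernel

theorem rel28_0 : data.relOK [7,3,7,3,7,3] 0 4694 = true := by decide +kernel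

theorem rel28_1 : data.relOK [7,3,7,3,7,3] 4694 4694 = true := by decide +kernel

theorem rel28_2 : data.relOK [7,3,7,3,7,3] 9388 4692 = true := by decide +kernel

theorem rel29_0 : data.relOK [8,3,8,3] 0 7040 = true := by decide +kernel

theorem rel29_1 : data.relOK [8,3,8,3] 7040 7040 = true := by decide +kernel

end

end Fi22BTable
end H93
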