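import Mathlib
import Cfsg.Agent.H93.Fi22BTable.Data

/-!
A checked coset table (generated data).
-/

set_option autoImplicit false
set_option maxRecDepth 100000
set_option linter.all false
set_option Elab.async false

namespace H93
namespace Fi22BTable

open Coset

noncomputable section

theorem rel30_0 : data.relOK [4,4] 0 14080 = true := by decide +kernel

theorem rel31_0 : data.relOK [5,4,5,4,5,4] 0 4694 = true := by decide +kernel

theorem rel31_1 : data.relOK [5,4,5,4,5,4] 4694 4694 = true := by decide +kernel

theorem rel31_2 : data.relOK [5,4,5,4,5,4] 9388 4692 = true := by decide +kernel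

theorem rel32_0 : data.relOK [6,4,6,4] 0 7040 = true := by decide +kernel

theorem rel32_1 : data.relOK [6,4,6,4] 7040 7040 = true := by decide +kernel

theorem rel33_0 : data.relOK [7,4,7,4] 0 7040 = true := by decide +kernel

theorem rel33_1 : data.relOK [7,4,7,4] 7040 7040 = true := by decide +kernel

theorem rel34_0 : data.relOK [8,4,8,4] 0 7040 = true := by decide +kernel

theorem rel34_1 : data.relOK [8,4,8,4] 7040 7040 = true := by decide +kernel

theorem rel35_0 : data.relOK [5,5] 0 14080 = true := by decide +kernel

theorem rel36_0 : data.relOK [6,5,6,5,6,5] 0 4694 = true := by decide +kernel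

theorem rel36_1 : data.relOK [6,5,6,5,6,5] 4694 4694 = true := by decide +kernel

theorem rel36_2 : data.relOK [6,5,6,5,6,5] 9388 4692 = true := by decide +kernel

theorem rel37_0 : data.relOK [7,5,7,5] 0 7040 = true := by decide +kernel

theorem rel37_1 : data.relOK [7,5,7,5] 7040 7040 = true := by decide +kernel

theorem rel38_0 : data.relOK [8,5,8,5] 0 7040 = true := by decide +kernel

theorem rel38_1 : data.relOK [8,5,8,5] 7040 7040 = true := by decide +kernel

theorem rel39_0 : data.relOK [6,6] 0 14080 = true := by decide +kernel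

theorem rel40_0 : data.relOK [7,6,7,6] 0 7040 = true := by decide +kernel

theorem rel40_1 : data.relOK [7,6,7,6] 7040 7040 = true := by decide +kernel

theorem rel41_0 : data.relOK [8,6,8,6] 0 7040 = true := by decide +kernel

theorem rel41_1 : data.relOK [8,6,8,6] 7040 7040 = true := by decide +kernel

theorem rel42_0 : data.relOK [7,7] 0 14080 = true := by decide +kernel

theorem rel43_0 : data.relOK [8,7,8,7,8,7] 0 4694 = true := by decide +kernel

theorem rel43_1 : data.relOK [8,7,8,7,8,7] 4694 4694 = true := by decide +kernel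

theorem rel43_2 : data.relOK [8,7,8,7,8,7] 9388 4692 = true := by decide +kernel

theorem rel44_0 : data.relOK [8,8] 0 14080 = true := by decide +kernel

theorem rel45_0 : data.powOK [8,7,3,5,4,3,1,2,3] 10 pw45 0 1408 = true := by decide +kernel

theorem rel45_1 : data.powOK [8,7,3,5,4,3,1,2,3] 10 pw45 1408 1408 = true := by decide +kernel

theorem rel45_2 : data.powOK [8,7,3,5,4,3,1,2,3] 10 pw45 2816 1408 = true := by decide +kernel

theorem rel45_3 : data.powOK [8,7,3,5,4,3,1,2,3] 10 pw45 4224 1408 = true := by decide +kernel

theorem rel45_4 : data.powOK [8,7,3,5,4,3,1,2,3] 10 pw45 5632 1408 = true := by decide +kernel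

theorem rel45_5 : data.powOK [8,7,3,5,4,3,1,2,3] 10 pw45 7040 1408 = true := by decide +kernel

theorem rel45_6 : data.powOK [8,7,3,5,4,3,1,2,3] 10 pw45 8448 1408 = true := by decide +kernel

theorem rel45_7 : data.powOK [8,7,3,5,4,3,1,2,3] 10 pw45 9856 1408 = true := by decide +kernel

theorem rel45_8 : data.powOK [8,7,3,5,4,3,1,2,3] 10 pw45 11264 1408 = true := by decide +kernel

theorem rel45_9 : data.powOK [8,7,3,5,4,3,1,2,3] 10 pw45 12672 1408 = true := by decide +kernel

theorem rel46_0 : data.powOK [7,5,4,3,2,1,0] 9 pw46 0 1760 = true := by decide +kernel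

theorem rel46_1 : data.powOK [7,5,4,3,2,1,0] 9 pw46 1760 1760 = true := by decide +kernel

theorem rel46_2 : data.powOK [7,5,4,3,2,1,0] 9 pw46 3520 1760 = true := by decide +kernel

theorem rel46_3 : data.powOK [7,5,4,3,2,1,0] 9 pw46 5280 1760 = true := by decide +kernel

theorem rel46_4 : data.powOK [7,5,4,3,2,1,0] 9 pw46 7040 1760 = true := by decide +kernel

theorem rel46_5 : data.powOK [7,5,4,3,2,1,0] 9 pw46 8800 1760 = true := by decide +kernel

theorem rel46_6 : data.powOK [7,5,4,3,2,1,0] 9 pw46 10560 1760 = true := by decide +kernel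

theorem rel46_7 : data.powOK [7,5,4,3,2,1,0] 9 pw46 12320 1760 = true := by decide +kernel

theorem rel47_0 : data.powOK [7,6,5,4,3,2,1] 9 pw47 0 1760 = true := by decide +kernel

theorem rel47_1 : data.powOK [7,6,5,4,3,2,1] 9 pw47 1760 1760 = true := by decide +kernel

end

end Fi22BTable
end H93
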